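import Mathlib

/-!
Degree of a finitely generated field extension `K/k` over `k(K^p)`, when `p`-th powers preserve
linear independence over `k` (i.e. `K/k` is separable).
-/

set_option autoImplicit false
set_option linter.style.haveILetI false
universe u

namespace Groth.Agent.FrobDeg4

open IntermediateField

/-- Independence over `k(x^p)` from independence over `k` after multiplying by the monomials in `x^p`. -/
theorem linearIndependent_adjoin {k K : Type u} [Field k] [Field K] [Algebra k K] (p : ℕ)
    {s : Type u} [Fintype s] (x : s → K) {ι : Type u} [Fintype ι] (y : ι → K)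
    (hy : LinearIndependent k (fun a : ι × (s →₀ ℕ) => y a.1 * (∏ i, x i ^ a.2 i) ^ p)) :
    LinearIndependent (adjoin k (Set.range fun i => x i ^ p)) y := by
  classical
  let mono : (s →₀ ℕ) → K := fun e => ∏ i, x i ^ e i
  let ψ : MvPolynomial s k →ₐ[k] K := MvPolynomial.aeval fun i => x i ^ p
  have hψ : ∀ (q : s →₀ ℕ) (c : k), ψ (MvPolynomial.monomial q c) = c • mono q ^ p := by
    intro q c
    rw [MvPolynomial.aeval_monomial, Finsupp.prod_fintype _ _ (fun i => pow_zero _), Algebra.smul_def]
    simp only [mono, ← Finset.prod_pow, ← pow_mul, mul_comm p]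
  have hpoly : ∀ P : ι → MvPolynomial s k, ∑ i, ψ (P i) * y i = 0 → ∀ i, P i = 0 := by
    intro P hP i
    let S : Finset (ι × (s →₀ ℕ)) := (Finset.univ : Finset ι).biUnion fun j => ({j} : Finset ι) ×ˢ (P j).support
    have hS : ∀ a, a ∈ S ↔ a.2 ∈ (P a.1).support := fun ⟨a1, a2⟩ => by simp [S]
    have h0 := linearIndependent_iff'.mp hy S (fun a => (P a.1).coeff a.2)
      (by
        rw [← hP, Finset.sum_biUnion ?_]
        · refine Finset.sum_congr rfl fun j _ => ?_
          rw [Finset.sum_product, Finset.sum_singleton]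
          conv_rhs => rw [(P j).as_sum, map_sum, Finset.sum_mul]
          exact Finset.sum_congr rfl fun q _ => by rw [hψ, smul_mul_assoc, mul_comm (mono q ^ p)]
        · intro a _ c _ hac
          simp only [Function.onFun, Finset.disjoint_left, Finset.mem_product, Finset.mem_singleton]
          rintro ⟨z1, z2⟩ ⟨h1, -⟩ ⟨h2, -⟩
          exact hac (h1.symm.trans h2))
    by_contra hne
    obtain ⟨q, hq⟩ := Finset.nonempty_of_ne_empty (mt MvPolynomial.support_eq_empty.mp hne)
    exact MvPolynomial.mem_support_iff.mp hq (h0 (i, q) ((hS _).mpr hq))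
  rw [Fintype.linearIndependent_iff]
  intro g hg
  have hrep : ∀ i, ∃ r t : MvPolynomial s k, ψ t ≠ 0 ∧ (g i : K) = ψ r / ψ t := by
    intro i
    obtain ⟨r, t, h⟩ := (mem_adjoin_range_iff (F := k) (fun j => x j ^ p) (g i : K)).mp (g i).2
    by_cases ht : ψ t = 0
    · exact ⟨0, 1, by simp, by rw [h]; simp only [ψ] at ht; simp [ht]⟩
    · exact ⟨r, t, ht, h⟩
  choose r t ht hgr using hrep
  have h1 : ∑ i, ψ (r i * ∏ j ∈ Finset.univ.erase i, t j) * y i = 0 := by
    have h2 : ∀ i, ψ (r i * ∏ j ∈ Finset.univ.erase i, t j) * y i = (∏ j, ψ (t j)) * ((g i : K) * y i) := by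
      intro i
      rw [map_mul, map_prod, hgr i, ← Finset.mul_prod_erase Finset.univ (fun j => ψ (t j)) (Finset.mem_univ i)]
      field_simp [ht i]
    rw [Finset.sum_congr rfl fun i _ => h2 i, ← Finset.mul_sum]
    have h3 : ∑ i, (g i : K) * y i = 0 := hg
    rw [h3, mul_zero]
  intro i
  have h4 := congrArg ψ (hpoly _ h1 i)
  rw [map_mul, map_prod, map_zero, mul_eq_zero] at h4
  rcases h4 with h4 | h4
  · exact Subtype.ext (by rw [hgr i, h4, zero_div]; rfl)
  · exact absurd h4 (Finset.prod_ne_zero_iff.mpr fun j _ => ht j)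

set_option maxHeartbeats 800000 in
theorem finrank_adjoin_pow {k K : Type u} [Field k] [Field K] [Algebra k K] (p : ℕ) [Fact p.Prime]
    [CharP K p] [Algebra.EssFiniteType k K] (d : ℕ) (hd : Algebra.trdeg k K = d)
    (hind : ∀ (ι : Type u) (y : ι → K), LinearIndependent k y → LinearIndependent k fun i => y i ^ p) :
    Module.finrank (adjoin k (Set.range fun y : K => y ^ p)) K = p ^ d := by
  classical
  have hp : 0 < p := (Fact.out : p.Prime).pos
  haveI : NeZero p := ⟨hp.ne'⟩
  haveI : ExpChar K p := ExpChar.prime Fact.out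
  obtain ⟨s, hs⟩ := exists_isTranscendenceBasis k K
  have hcard : Cardinal.mk s = d := by rw [hs.cardinalMk_eq_trdeg, hd]
  haveI : Finite s := Cardinal.lt_aleph0_iff_finite.mp (by rw [hcard]; exact Cardinal.natCast_lt_aleph0)
  haveI := Fintype.ofFinite s
  have hcard' : Fintype.card s = d := by exact_mod_cast (Cardinal.mk_fintype s).symm.trans hcard
  let x : s → K := Subtype.val
  let E : IntermediateField k K := adjoin k (Set.range x)
  haveI : Algebra.IsAlgebraic E K := hs.isAlgebraic_field
  haveI : Algebra.EssFiniteType E K := Algebra.EssFiniteType.of_comp k E K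
  haveI : FiniteDimensional E K := Algebra.finite_of_essFiniteType_of_isAlgebraic
  let b := Module.finBasis E K
  set n := Module.finrank E K with hn
  let mono : (s →₀ ℕ) → K := fun e => ∏ i, x i ^ e i
  have hmono_add : ∀ e e', mono (e + e') = mono e * mono e' := fun e e' => by
    simp [mono, pow_add, Finset.prod_mul_distrib]
  have hmono_aeval : ∀ e : s →₀ ℕ, MvPolynomial.aeval x (MvPolynomial.monomial e (1 : k)) = mono e := by
    intro e
    rw [MvPolynomial.aeval_monomial, map_one, one_mul, Finsupp.prod_fintype]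
    exact fun i => pow_zero _
  have hmonoE : ∀ e, mono e ∈ E := fun e =>
    prod_mem fun i _ => pow_mem (subset_adjoin k _ (Set.mem_range_self i)) _
  have hmonoind : LinearIndependent k fun e : s →₀ ℕ => (⟨mono e, hmonoE e⟩ : E) := by
    refine LinearIndependent.of_comp E.val.toLinearMap ?_
    have h1 := (MvPolynomial.basisMonomials s k).linearIndependent.map'
      (MvPolynomial.aeval x : MvPolynomial s k →ₐ[k] K).toLinearMap
      (LinearMap.ker_eq_bot.mpr hs.1)
    have h2 : (E.val.toLinearMap ∘ fun e : s →₀ ℕ => (⟨mono e, hmonoE e⟩ : E)) =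
        (MvPolynomial.aeval x : MvPolynomial s k →ₐ[k] K).toLinearMap ∘ MvPolynomial.basisMonomials s k := by
      funext e
      simp only [Function.comp_apply, MvPolynomial.coe_basisMonomials, AlgHom.toLinearMap_apply]
      exact (hmono_aeval e).symm
    rw [h2]
    exact h1
  have hbig : LinearIndependent k fun a : (s →₀ ℕ) × Fin n => mono a.1 * b a.2 :=
    linearIndependent_smul hmonoind b.linearIndependent
  -- the field generated by the `p`-th powers of the variables
  let E' : IntermediateField k K := adjoin k (Set.range fun i => x i ^ p)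
  have hxp : ∀ i, x i ^ p ∈ E' := fun i => subset_adjoin k _ ⟨i, rfl⟩
  have key : ∀ {ι : Type u} [Fintype ι] (y : ι → K),
      LinearIndependent k (fun a : ι × (s →₀ ℕ) => y a.1 * mono a.2 ^ p) → LinearIndependent E' y :=
    fun y hy => linearIndependent_adjoin p x y hy
  -- basis `mono m * b j` of `K` over `E'`
  let emb : (s → Fin p) → (s →₀ ℕ) := fun m => Finsupp.equivFunOnFinite.symm fun i => (m i : ℕ)
  let z : (s → Fin p) × Fin n → K := fun a => mono (emb a.1) * b a.2
  have hz : LinearIndependent E' fun a : ULift.{u} ((s → Fin p) × Fin n) => z a.down := by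
    refine key _ ?_
    let G : ULift.{u} ((s → Fin p) × Fin n) × (s →₀ ℕ) → (s →₀ ℕ) × Fin n :=
      fun a => (emb a.1.down.1 + p • a.2, a.1.down.2)
    have hG : Function.Injective G := by
      rintro ⟨⟨m, j⟩, q⟩ ⟨⟨m', j'⟩, q'⟩ h
      obtain ⟨h1, rfl⟩ := Prod.ext_iff.mp h
      have h2 : ∀ i, (m i : ℕ) + p * q i = (m' i : ℕ) + p * q' i := fun i => by
        simpa [G, emb] using DFunLike.congr_fun h1 i
      have h3 : ∀ i, m i = m' i := fun i => Fin.ext (by
        have := congrArg (· % p) (h2 i)
        simpa [Nat.mod_eq_of_lt (m i).isLt, Nat.mod_eq_of_lt (m' i).isLt] using this)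
      obtain rfl : m = m' := funext h3
      obtain rfl : q = q' := Finsupp.ext fun i => Nat.eq_of_mul_eq_mul_left hp (Nat.add_left_cancel (h2 i))
      rfl
    convert hbig.comp G hG using 1
    funext a
    simp only [Function.comp_apply, G, z, hmono_add]
    have : mono (p • a.2) = mono a.2 ^ p := by simp [mono, ← Finset.prod_pow, pow_mul, mul_comm p]
    rw [this]
    ring
  -- `p`-th powers of `E` lie in `E'`
  have hEp : ∀ e ∈ E, e ^ p ∈ E' := by
    intro e he
    induction he using adjoin_induction with
    | mem w hw => obtain ⟨i, rfl⟩ := hw; exact hxp i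
    | algebraMap c => rw [← map_pow]; exact E'.algebraMap_mem _
    | add a c _ _ ha hc => rw [add_pow_char]; exact add_mem ha hc
    | inv a _ ha => rw [inv_pow]; exact inv_mem ha
    | mul a c _ _ ha hc => rw [mul_pow]; exact mul_mem ha hc
  let M : Submodule E' K := Submodule.span E' (Set.range fun m => mono (emb m))
  have hmonoM : ∀ e, mono e ∈ M := by
    intro e
    let m : s → Fin p := fun i => ⟨e i % p, Nat.mod_lt _ hp⟩
    let q : s →₀ ℕ := Finsupp.equivFunOnFinite.symm fun i => e i / p
    have he : e = p • q + emb m := by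
      ext i
      simp [emb, m, q, Nat.div_add_mod]
    have hq : mono (p • q) ∈ E' := by
      have : mono (p • q) = ∏ i, (x i ^ p) ^ q i := by simp [mono, ← pow_mul]
      rw [this]; exact prod_mem fun i _ => pow_mem (hxp i) _
    rw [he, hmono_add]
    exact M.smul_mem (⟨_, hq⟩ : E') (Submodule.subset_span ⟨m, rfl⟩)
  have haevalM : ∀ (P : MvPolynomial s k) (e : s →₀ ℕ), mono e * MvPolynomial.aeval x P ∈ M := by
    intro P e
    induction P using MvPolynomial.induction_on' with
    | monomial q c =>
      have : mono e * MvPolynomial.aeval x (MvPolynomial.monomial q c) = c • mono (e + q) := by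
        rw [hmono_add, MvPolynomial.aeval_monomial, Finsupp.prod_fintype _ _ (fun i => pow_zero _), Algebra.smul_def]
        ring
      rw [this]
      exact Submodule.smul_of_tower_mem M c (hmonoM _)
    | add P Q hP hQ => rw [map_add, mul_add]; exact add_mem hP hQ
  have hEM : ∀ e ∈ E, e ∈ M := by
    intro e he
    obtain ⟨r, t, rfl⟩ := (mem_adjoin_range_iff (F := k) x e).mp he
    by_cases ht : MvPolynomial.aeval x t = 0
    · rw [ht, div_zero]; exact M.zero_mem
    have htp : (MvPolynomial.aeval x t) ^ p ∈ E' :=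
      hEp _ ((mem_adjoin_range_iff (F := k) x _).mpr ⟨t, 1, by simp⟩)
    have h1 : MvPolynomial.aeval x r / MvPolynomial.aeval x t =
        ((MvPolynomial.aeval x t) ^ p)⁻¹ * (mono 0 * MvPolynomial.aeval x (r * t ^ (p - 1))) := by
      rw [show mono 0 = 1 by simp [mono], one_mul, map_mul, map_pow]
      have : MvPolynomial.aeval x t ^ p = MvPolynomial.aeval x t * MvPolynomial.aeval x t ^ (p - 1) := by
        rw [← pow_succ']; congr 1; omega
      rw [this]
      field_simp
    rw [h1]
    exact M.smul_mem (⟨_, inv_mem htp⟩ : E') (haevalM _ 0)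
  have hzspan : ⊤ ≤ Submodule.span E' (Set.range fun a : ULift.{u} ((s → Fin p) × Fin n) => z a.down) := by
    intro y _
    rw [← b.sum_repr y]
    refine Submodule.sum_mem _ fun j _ => ?_
    show (b.repr y j : K) * b j ∈ _
    have hM : (b.repr y j : K) ∈ M := hEM _ (b.repr y j).2
    have hle : M.map (LinearMap.mulRight E' (b j)) ≤
        Submodule.span E' (Set.range fun a : ULift.{u} ((s → Fin p) × Fin n) => z a.down) := by
      rw [Submodule.map_span, Submodule.span_le]
      rintro _ ⟨_, ⟨m, rfl⟩, rfl⟩
      exact Submodule.subset_span ⟨⟨(m, j)⟩, rfl⟩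
    exact hle ⟨_, hM, rfl⟩
  let L : IntermediateField k K := adjoin k (Set.range fun y : K => y ^ p)
  have hle : E' ≤ L := adjoin.mono k _ _ (by rintro _ ⟨i, rfl⟩; exact ⟨x i, rfl⟩)
  -- basis `b j ^ p` of `L` over `E'`
  have hw : LinearIndependent E' fun j : ULift.{u} (Fin n) => b j.down ^ p := by
    refine key _ ?_
    have := hind _ _ hbig
    let G : ULift.{u} (Fin n) × (s →₀ ℕ) → (s →₀ ℕ) × Fin n := fun a => (a.2, a.1.down)
    convert this.comp G (fun a c h => by
      obtain ⟨h1, h2⟩ := Prod.ext_iff.mp h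
      exact Prod.ext (ULift.ext _ _ h2) h1) using 1
    funext a
    simp only [Function.comp_apply, G]
    ring
  let N : Submodule E' K := Submodule.span E' (Set.range fun j : ULift.{u} (Fin n) => b j.down ^ p)
  have hpN : ∀ y : K, y ^ p ∈ N := by
    intro y
    rw [← b.sum_repr y, sum_pow_char]
    refine Submodule.sum_mem _ fun j _ => ?_
    show ((b.repr y j : K) * b j) ^ p ∈ _
    rw [mul_pow]
    exact N.smul_mem (⟨_, hEp _ (b.repr y j).2⟩ : E') (Submodule.subset_span ⟨⟨j⟩, rfl⟩)
  have hNmul : ∀ a ∈ N, ∀ c ∈ N, a * c ∈ N := by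
    intro a ha c hc
    refine (Submodule.span_mul_span E' _ _).le.trans ?_ (Submodule.mul_mem_mul ha hc)
    rw [Submodule.span_le]
    rintro _ ⟨_, ⟨i, rfl⟩, _, ⟨j, rfl⟩, rfl⟩
    show b i.down ^ p * b j.down ^ p ∈ N
    rw [← mul_pow]; exact hpN _
  have hLN : ∀ y ∈ L, y ∈ N := by
    intro y hy
    induction hy using adjoin_induction with
    | mem w hw => obtain ⟨v, rfl⟩ := hw; exact hpN v
    | algebraMap c =>
      rw [Algebra.algebraMap_eq_smul_one]
      exact Submodule.smul_of_tower_mem N c (by simpa using hpN 1)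
    | add a c _ _ ha hc => exact add_mem ha hc
    | inv a _ ha =>
      rcases eq_or_ne a 0 with rfl | h0
      · simp
      have : a⁻¹ = a ^ (p - 1) * (a⁻¹) ^ p := by
        rw [inv_pow, eq_mul_inv_iff_mul_eq₀ (pow_ne_zero _ h0)]
        conv_lhs => rw [show p = (p - 1) + 1 by omega, pow_succ']
        rw [← mul_assoc, inv_mul_cancel₀ h0, one_mul]
      rw [this]
      refine hNmul _ ?_ _ (hpN _)
      clear this
      induction p - 1 with
      | zero => simpa using hpN 1
      | succ i hi => rw [pow_succ]; exact hNmul _ hi _ ha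
    | mul a c _ _ ha hc => exact hNmul _ ha _ hc
  let L' : IntermediateField E' K := extendScalars hle
  have hL'N : Subalgebra.toSubmodule L'.toSubalgebra = N := by
    refine le_antisymm (fun y hy => hLN y hy) ?_
    rw [Submodule.span_le]
    rintro _ ⟨j, rfl⟩
    exact subset_adjoin k _ ⟨b j.down, rfl⟩
  have h1 : Module.finrank E' L' = n := by
    show Module.finrank E' (Subalgebra.toSubmodule L'.toSubalgebra) = n
    rw [hL'N, finrank_span_eq_card hw]
    simp
  have h2 : Module.finrank E' K = p ^ d * n := by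
    rw [Module.finrank_eq_card_basis (Module.Basis.mk hz hzspan)]
    simp [hcard']
  have hnpos : 0 < n := Module.finrank_pos
  have h3 := Module.finrank_mul_finrank E' L' K
  rw [h1, h2, mul_comm] at h3
  exact Nat.eq_of_mul_eq_mul_right hnpos h3

end Groth.Agent.FrobDeg4
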